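import Cfsg.Agent.Lib.PSLThree.Five.Rep
import Cfsg.Agent.SimpleFacts.MinIndexPSUFive.Witness
import Cfsg.Agent.S0280

/-!
# A subgroup `3.A₇` of `SU₃(5)` containing a group of order 168
-/

set_option autoImplicit false
set_option linter.style.haveILetI false

namespace Cfsg.Agent.PSLThree.Five

open Matrix
open Cfsg.Agent.Classical.Unitary (mat suToGU mem_center_iff SU_ext)
open scoped commutatorElement

theorem card_nonzero : Fintype.card {v : Fin 3 → ZMod 2 // v ≠ 0} = 7 := by decide

theorem commutator_self_le' {G : Type*} [Group G] (U : Subgroup G) : ⁅U, U⁆ ≤ U :=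
  Subgroup.commutator_le.2 fun _ ha _ hb => mul_mem (mul_mem (mul_mem ha hb) (inv_mem ha)) (inv_mem hb)

/-- `PSL₂(7)` inside `A₇` -/
theorem exists_psl_alt {K : Type} [Field K] [Fintype K] (h7 : Fintype.card K = 7) :
    ∃ f : Matrix.ProjectiveSpecialLinearGroup (Fin 2) K →* alternatingGroup (Fin 7), Function.Injective f := by
  classical
  haveI : Fact (Nat.Prime 2) := ⟨Nat.prime_two⟩
  obtain ⟨e⟩ := Rep.psl_three_two h7
  have hcen : Subgroup.center (Matrix.SpecialLinearGroup (Fin 3) (ZMod 2)) = ⊥ := by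
    rw [← Subgroup.card_eq_one, Classical.Linear.natCard_center_SL, ZMod.card]; rfl
  let e' : Matrix.ProjectiveSpecialLinearGroup (Fin 3) (ZMod 2) ≃* Matrix.SpecialLinearGroup (Fin 3) (ZMod 2) :=
    (QuotientGroup.quotientMulEquivOfEq hcen).trans QuotientGroup.quotientBot
  let V := {v : Fin 3 → ZMod 2 // v ≠ 0}
  have hV : Nat.card V = 7 := by rw [← card_nonzero]; exact Nat.card_eq_fintype_card
  let act : Matrix.SpecialLinearGroup (Fin 3) (ZMod 2) →* Equiv.Perm V :=
    { toFun := fun g =>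
        { toFun := fun v => ⟨g.1 *ᵥ v.1, fun h => v.2 (by
            have := congrArg ((g⁻¹).1 *ᵥ ·) h
            simp only [mulVec_mulVec, mulVec_zero] at this
            rwa [← Matrix.SpecialLinearGroup.coe_mul, inv_mul_cancel, Matrix.SpecialLinearGroup.coe_one,
              one_mulVec] at this)⟩
          invFun := fun v => ⟨(g⁻¹).1 *ᵥ v.1, fun h => v.2 (by
            have := congrArg (g.1 *ᵥ ·) h
            simp only [mulVec_mulVec, mulVec_zero] at this
            rwa [← Matrix.SpecialLinearGroup.coe_mul, mul_inv_cancel, Matrix.SpecialLinearGroup.coe_one,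
              one_mulVec] at this)⟩
          left_inv := fun v => Subtype.ext (by
            show (g⁻¹).1 *ᵥ (g.1 *ᵥ v.1) = v.1
            rw [mulVec_mulVec, ← Matrix.SpecialLinearGroup.coe_mul, inv_mul_cancel,
              Matrix.SpecialLinearGroup.coe_one, one_mulVec])
          right_inv := fun v => Subtype.ext (by
            show g.1 *ᵥ ((g⁻¹).1 *ᵥ v.1) = v.1
            rw [mulVec_mulVec, ← Matrix.SpecialLinearGroup.coe_mul, mul_inv_cancel,
              Matrix.SpecialLinearGroup.coe_one, one_mulVec]) }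
      map_one' := Equiv.ext fun v => Subtype.ext (by simp)
      map_mul' := fun g h => Equiv.ext fun v => Subtype.ext (by simp [mulVec_mulVec]) }
  have hact : Function.Injective act := fun g h hgh => Subtype.ext (Matrix.ext_of_mulVec_single fun i => by
    have := congrArg (fun σ : Equiv.Perm V => (σ ⟨Pi.single i 1, by simp⟩).1) hgh
    exact this)
  let p : Matrix.SpecialLinearGroup (Fin 3) (ZMod 2) →* Equiv.Perm (Fin 7) :=
    (Finite.equivFinOfCardEq hV).permCongrHom.toMonoidHom.comp act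
  have hp : Function.Injective p := (Finite.equivFinOfCardEq hV).permCongrHom.injective.comp hact
  have hsign : ∀ g, p g ∈ alternatingGroup (Fin 7) := fun g => by
    have h : commutator (Matrix.SpecialLinearGroup (Fin 3) (ZMod 2)) ≤ (Equiv.Perm.sign.comp p).ker :=
      Abelianization.commutator_subset_ker _
    rw [Classical.Linear.commutator_SL_eq_top (by simp)] at h
    exact h (Subgroup.mem_top g)
  exact ⟨(p.codRestrict _ hsign).comp (e'.toMonoidHom.comp e.toMonoidHom),
    ((MonoidHom.injective_codRestrict _ _ _).2 hp).comp (e'.injective.comp e.injective)⟩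

variable {F : Type*} [Field F] [Fintype F]

local notation "GL3" => GL (Fin 3) F
local notation "S5" => (Cfsg.GU 3 F 5 ⊓ Cfsg.Geo.specialLinear (Fin 3) F)
local notation "Sc" => Cfsg.Geo.scalars (Fin 3) F

/-- `SU₃(5)` in `GL₃` -/
def emb : Cfsg.SU 3 F 5 →* GL (Fin 3) F := (Cfsg.GU 3 F 5).subtype.comp suToGU

theorem emb_injective : Function.Injective (emb (F := F)) :=
  Subtype.val_injective.comp Classical.Unitary.suToGU_injective

theorem range_emb : (emb (F := F)).range = S5 := by
  ext g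
  constructor
  · rintro ⟨s, rfl⟩
    exact ⟨(suToGU s).2, MonoidHom.mem_ker.2 (Units.ext s.1.2)⟩
  · intro hg
    exact ⟨Classical.Unitary.suOfGU ⟨g, hg.1⟩ (det_eq_one le_rfl hg.2), Units.ext rfl⟩

/-- the overgroup -/
theorem exists_model (hF : Fintype.card F = 25) {K : Type} [Field K] [Fintype K] (h7 : Fintype.card K = 7) :
    ∃ (A : Subgroup GL3) (σ : Matrix.ProjectiveSpecialLinearGroup (Fin 2) K →* GL3),
      A ≤ S5 ∧ Sc ⊓ S5 ≤ A ∧ Function.Injective σ ∧ (∀ x, σ x ∈ A) ∧
      Nat.card ↥A = 2520 * Nat.card ↥(Sc ⊓ S5) ∧ Nat.card ↥S5 = 126000 * Nat.card ↥(Sc ⊓ S5) := by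
  classical
  have hF2 : Fintype.card F = 5 ^ 2 := by rw [hF]; norm_num
  obtain ⟨φ, hφ⟩ := SimpleFacts.MinIndexPSUFive.Witness.exists_hom hF
  obtain ⟨f, hf⟩ := exists_psl_alt h7
  have hPSU : Nat.card (Cfsg.PSU 3 F 5) = 126000 := by
    have h := Cfsg.Agent.S0280.result hF2 3 (by norm_num)
    norm_num [Finset.prod_range_succ, -Nat.card_eq_fintype_card] at h
    omega
  have hA7 : Nat.card φ.range = 2520 := by
    rw [Nat.card_congr (MonoidHom.ofInjective hφ).toEquiv.symm]
    have h2 : 2 * Nat.card (alternatingGroup (Fin 7)) = 5040 := by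
      rw [two_mul_nat_card_alternatingGroup, Nat.card_eq_fintype_card, Fintype.card_perm, Fintype.card_fin]
      rfl
    omega
  set Z := Subgroup.center (Cfsg.SU 3 F 5) with hZdef
  set q := QuotientGroup.mk' Z with hq
  set C := φ.range.comap q with hC
  have hcen : Z.map emb = Sc ⊓ S5 := by
    ext g
    constructor
    · rintro ⟨s, hs, rfl⟩
      have hsd : (emb s : Matrix (Fin 3) (Fin 3) F).det = 1 := s.1.2
      obtain ⟨a, ha⟩ := (mem_center_iff hF2 (by norm_num) s).1 hs
      have ha0 : a ≠ 0 := fun e => by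
        rw [show (emb s : Matrix (Fin 3) (Fin 3) F) = a • 1 from ha, e, zero_smul, det_fin_three] at hsd
        simp at hsd
      exact ⟨(Cfsg.Geo.mem_scalars_iff _).2 ⟨Units.mk0 a ha0, ha⟩, range_emb.le ⟨s, rfl⟩⟩
    · rintro ⟨hs, hS⟩
      obtain ⟨s, rfl⟩ := range_emb.ge hS
      obtain ⟨c, hc⟩ := (Cfsg.Geo.mem_scalars_iff _).1 hs
      exact ⟨s, (mem_center_iff hF2 (by norm_num) s).2 ⟨c, hc⟩, rfl⟩
  have hz : Nat.card ↥(Sc ⊓ S5) = Nat.card Z := by
    rw [← hcen, Subgroup.card_map_of_injective emb_injective]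
  have hSU : Nat.card (Cfsg.SU 3 F 5) = 126000 * Nat.card Z := by
    rw [Subgroup.card_eq_card_quotient_mul_card_subgroup Z]
    exact congrArg (· * Nat.card Z) hPSU
  have hCc : Nat.card C = 2520 * Nat.card Z := by
    have h1 := C.card_mul_index
    rw [hC, Subgroup.index_comap_of_surjective _ (QuotientGroup.mk'_surjective Z), ← hC, hSU] at h1
    have h2 := φ.range.card_mul_index
    rw [hA7] at h2
    rw [show Nat.card (Cfsg.SU 3 F 5 ⧸ Z) = 126000 from hPSU] at h2
    have hi : φ.range.index = 50 := by omega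
    rw [hi] at h1
    omega
  -- the perfect group over `PSL₂(7)`
  set g := φ.comp f with hg
  have hginj : Function.Injective g := hφ.comp hf
  set U := g.range.comap q with hU
  set D := ⁅U, U⁆ with hD
  have hDU : D ≤ U := commutator_self_le' U
  haveI : IsSimpleGroup (Matrix.ProjectiveSpecialLinearGroup (Fin 2) K) :=
    Classical.Linear.isSimpleGroup_PSL_fin le_rfl fun _ => by omega
  have hperfL : commutator (Matrix.ProjectiveSpecialLinearGroup (Fin 2) K) = ⊤ := by
    obtain ⟨e⟩ := Rep.psl_three_two h7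
    haveI : Fact (Nat.Prime 2) := ⟨Nat.prime_two⟩
    refine (Subgroup.Normal.eq_bot_or_eq_top inferInstance).resolve_left fun h => ?_
    have hcard := natCard_psl h7
    haveI : IsMulCommutative (Matrix.ProjectiveSpecialLinearGroup (Fin 2) K) := ⟨⟨fun a b => by
      have hm : ⁅a, b⁆ ∈ commutator (Matrix.ProjectiveSpecialLinearGroup (Fin 2) K) :=
        Subgroup.commutator_mem_commutator (Subgroup.mem_top a) (Subgroup.mem_top b)
      rw [h, Subgroup.mem_bot] at hm
      exact commutatorElement_eq_one_iff_mul_comm.1 hm⟩⟩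
    letI : CommGroup (Matrix.ProjectiveSpecialLinearGroup (Fin 2) K) :=
      { (inferInstance : Group (Matrix.ProjectiveSpecialLinearGroup (Fin 2) K)) with
        mul_comm := fun a b => IsMulCommutative.is_comm.comm a b }
    have hpr := (IsSimpleGroup.prime_card (α := Matrix.ProjectiveSpecialLinearGroup (Fin 2) K))
    rw [hcard] at hpr
    norm_num at hpr
  have hUg : U.map q = g.range := Subgroup.map_comap_eq_self_of_surjective (QuotientGroup.mk'_surjective Z) _
  have hDg : D.map q = g.range := by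
    rw [hD, Subgroup.map_commutator, hUg, MonoidHom.range_eq_map, ← Subgroup.map_commutator, ← commutator_def,
      hperfL]
  have hDD : ⁅D, D⁆ = D := by
    refine le_antisymm (commutator_self_le' D) (hD.le.trans ?_)
    rw [Subgroup.commutator_le]
    intro a ha b hb
    have split : ∀ u ∈ U, ∃ d ∈ D, ∃ c ∈ Z, u = d * c := fun u hu => by
      obtain ⟨d, hd, hdu⟩ := hDg.ge (hUg.le ⟨u, hu, rfl⟩)
      exact ⟨d, hd, d⁻¹ * u, QuotientGroup.eq.1 hdu, by group⟩
    obtain ⟨d, hd, c, hc, rfl⟩ := split a ha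
    obtain ⟨d', hd', c', hc', rfl⟩ := split b hb
    have e : ⁅d * c, d' * c'⁆ = ⁅d, d'⁆ := by
      rw [commutatorElement_def, commutatorElement_def]
      have h1 : ∀ x, x * c = c * x := fun x => Subgroup.mem_center_iff.1 hc x
      have h2 : ∀ x, x * c' = c' * x := fun x => Subgroup.mem_center_iff.1 hc' x
      calc d * c * (d' * c') * (d * c)⁻¹ * (d' * c')⁻¹
          = d * (c * d') * c' * c⁻¹ * d⁻¹ * c'⁻¹ * d'⁻¹ := by group
        _ = d * (d' * c) * c' * c⁻¹ * d⁻¹ * c'⁻¹ * d'⁻¹ := by rw [h1 d']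
        _ = d * d' * (c * c') * c⁻¹ * d⁻¹ * c'⁻¹ * d'⁻¹ := by group
        _ = d * d' * (c' * c) * c⁻¹ * d⁻¹ * c'⁻¹ * d'⁻¹ := by rw [h2 c]
        _ = d * d' * (c' * d⁻¹) * c'⁻¹ * d'⁻¹ := by group
        _ = d * d' * (d⁻¹ * c') * c'⁻¹ * d'⁻¹ := by rw [h2 d⁻¹]
        _ = d * d' * d⁻¹ * d'⁻¹ := by group
    rw [e]
    exact Subgroup.commutator_mem_commutator hd hd'
  set P := D.map emb with hP
  have hPle : P ≤ Cfsg.Geo.specialLinear (Fin 3) F := by
    rintro _ ⟨s, -, rfl⟩; exact (range_emb.le ⟨s, rfl⟩).2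
  have hPperf : ⁅P, P⁆ = P := by rw [hP, ← Subgroup.map_commutator, hDD]
  let θ : ↥P →* ↥g.range :=
    ((q.comp D.subtype).codRestrict g.range fun d => hDg.le ⟨d, d.2, rfl⟩).comp
      (D.equivMapOfInjective emb emb_injective).symm.toMonoidHom
  have hθ : Function.Surjective θ := fun y => by
    obtain ⟨d, hd, e⟩ := hDg.ge y.2
    refine ⟨D.equivMapOfInjective emb emb_injective ⟨d, hd⟩, Subtype.ext ?_⟩
    simp only [θ, MonoidHom.comp_apply, MulEquiv.coe_toMonoidHom, MulEquiv.symm_apply_apply]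
    exact e
  have hker : (Sc).subgroupOf P = θ.ker := by
    ext x
    obtain ⟨⟨d, hd⟩, rfl⟩ := (D.equivMapOfInjective emb emb_injective).surjective x
    rw [Subgroup.mem_subgroupOf, MonoidHom.mem_ker]
    simp only [θ, MonoidHom.comp_apply, MulEquiv.coe_toMonoidHom, MulEquiv.symm_apply_apply]
    have : emb d ∈ Sc ↔ d ∈ Z := by
      refine ⟨fun h => ?_, fun h => (hcen.le ⟨d, h, rfl⟩).1⟩
      obtain ⟨d', hd', e⟩ := hcen.ge ⟨h, range_emb.le ⟨d, rfl⟩⟩
      rwa [← emb_injective e]
    refine this.trans ((QuotientGroup.eq_one_iff d).symm.trans ?_)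
    exact ⟨fun h => Subtype.ext h, fun h => congrArg Subtype.val h⟩
  let e : Bar P ≃* Matrix.ProjectiveSpecialLinearGroup (Fin 2) K :=
    ((QuotientGroup.quotientMulEquivOfEq hker).trans
      (QuotientGroup.quotientKerEquivOfSurjective θ hθ)).trans (MonoidHom.ofInjective hginj).symm
  have hns := Rep.noScalar_of_psl hPle hPperf (by omega) (by omega) e
  have hbij : Function.Bijective (QuotientGroup.mk' ((Sc).subgroupOf P)) :=
    ⟨(injective_iff_map_eq_one _).2 fun x hx =>
      Subtype.ext (hns x x.2 (Subgroup.mem_subgroupOf.1 ((QuotientGroup.eq_one_iff x).1 hx))),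
      QuotientGroup.mk'_surjective _⟩
  refine ⟨C.map emb, P.subtype.comp ((MulEquiv.ofBijective _ hbij).symm.toMonoidHom.comp e.symm.toMonoidHom),
    ?_, ?_, ?_, fun x => ?_, ?_, ?_⟩
  · rintro _ ⟨s, -, rfl⟩; exact range_emb.le ⟨s, rfl⟩
  · rw [← hcen]
    exact Subgroup.map_mono fun s hs => by
      show q s ∈ φ.range
      rw [(QuotientGroup.eq_one_iff s).2 hs |> fun h => (h : q s = 1)]
      exact one_mem _
  · exact P.subtype_injective.comp (((MulEquiv.ofBijective _ hbij).symm.injective).comp e.symm.injective)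
  · obtain ⟨d, hd, hdx⟩ := (((MulEquiv.ofBijective _ hbij).symm (e.symm x)) : ↥P).2
    refine ⟨d, ?_, hdx⟩
    obtain ⟨y, hy⟩ := hUg.le ⟨d, hDU hd, rfl⟩
    exact ⟨f y, hy⟩
  · rw [Subgroup.card_map_of_injective emb_injective, hCc, hz]
  · rw [← range_emb, Nat.card_congr (MonoidHom.ofInjective emb_injective).toEquiv.symm, hSU, range_emb, hz]

end Cfsg.Agent.PSLThree.Five
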