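import Cfsg.Agent.Lib.PSLThree.Five.Rep
import Cfsg.Agent.Lib.PSLThree.Five.Model
import Cfsg.Agent.Lib.PSLThree.Rep.Families
import Cfsg.Agent.Lib.PSLThree.Over.Small

/-!
# The group of order 168 is not maximal in `SU₃(5)`
-/

set_option autoImplicit false

namespace Cfsg.Agent.PSLThree.Five

open Matrix
open Cfsg.Geo (IsMaximalIn IsResidualCore)
open Cfsg.Agent.PSLThree.Rep (tr tr_conj)

variable {F : Type*} [Field F] [Fintype F]

local notation "GL3" => GL (Fin 3) F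
local notation "Mat" => Matrix (Fin 3) (Fin 3) F
local notation "Sc" => Cfsg.Geo.scalars (Fin 3) F

theorem over_of_residual {H P : Subgroup (GL (Fin 3) F)} (hle : H ≤ Cfsg.Geo.specialLinear (Fin 3) F)
    (hP : IsResidualCore H P) : Over H P where
  core := ⟨hP.le.trans hle, hP.perfect, hP.simple, hP.nonabelian, hP.absIrred.1⟩
  le_sl := hle
  le := hP.le
  normal := hP.normal
  cent := hP.centralizer_scalar

theorem card_bar (G : Subgroup (GL (Fin 3) F)) :
    Nat.card G = Nat.card (Bar G) * Nat.card ↥(Cfsg.Geo.scalars (Fin 3) F ⊓ G) := by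
  rw [Subgroup.card_eq_card_quotient_mul_card_subgroup ((Sc).subgroupOf G)]
  congr 1
  rw [← Subgroup.inf_subgroupOf_right]
  exact Nat.card_congr (Subgroup.subgroupOfEquivOfLe inf_le_right).toEquiv

theorem not_maximal_five (hF : Fintype.card F = 25) {H P : Subgroup (GL (Fin 3) F)}
    (hH : IsMaximalIn (Cfsg.GU 3 F 5 ⊓ Cfsg.Geo.specialLinear (Fin 3) F) H) (hP : IsResidualCore H P)
    {K : Type} [Field K] [Fintype K] (h7 : Fintype.card K = 7)
    (e : Bar P ≃* Matrix.ProjectiveSpecialLinearGroup (Fin 2) K) : False := by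
  classical
  set S := Cfsg.GU 3 F 5 ⊓ Cfsg.Geo.specialLinear (Fin 3) F
  have hF2 : Fintype.card F = 5 ^ 2 := by rw [hF]; norm_num
  haveI : Fact (Nat.Prime 5) := ⟨by norm_num⟩
  haveI : CharP F 5 := charP_of_card_eq_prime_pow (hF2.trans rfl)
  have hnat : ∀ n : ℕ, ¬ 5 ∣ n → (n : F) ≠ 0 := fun n hn h => hn ((CharP.cast_eq_zero_iff F 5 n).1 h)
  have h2 : (2 : F) ≠ 0 := by exact_mod_cast hnat 2 (by norm_num)
  have h7F : ((7 : ℕ) : F) ≠ 0 := hnat 7 (by norm_num)
  have hHS : H ≤ S := hH.1.le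
  have hHsl : H ≤ Cfsg.Geo.specialLinear (Fin 3) F := hHS.trans inf_le_right
  have hPsl : P ≤ Cfsg.Geo.specialLinear (Fin 3) F := hP.le.trans hHsl
  have hO := over_of_residual hHsl hP
  -- `H` is `P` up to scalars
  haveI : Fact (Nat.Prime 7) := ⟨by norm_num⟩
  haveI : CharP K 7 := charP_of_card_eq_prime_pow (f := 1) (by rw [h7, pow_one])
  have h3 : ¬ IsSquare ((3 : ℕ) : K) := by
    rw [FiniteField.isSquare_iff (by rw [ringChar.eq K 7]; norm_num) (fun h => by
      rw [CharP.cast_eq_zero_iff K 7] at h; norm_num at h), h7]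
    intro h
    rw [← Nat.cast_pow, ← Nat.cast_one, CharP.natCast_eq_natCast K 7] at h
    revert h; decide
  obtain ⟨eH⟩ := over_prime hO h7F (by norm_num) h7 (k := 3) (by decide)
    (fun h => by rw [CharP.cast_eq_zero_iff K 7] at h; norm_num at h) h3 e
  have hHc : Nat.card H ≤ 168 * Nat.card ↥(Sc ⊓ S) := by
    rw [card_bar H, Nat.card_congr eH.toEquiv, natCard_psl h7]
    exact Nat.mul_le_mul_left _ (Subgroup.card_le_of_le (inf_le_inf_left _ hHS))
  -- the representation on `P`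
  have hns := Rep.noScalar_of_psl hPsl hP.perfect (by omega) (by omega) e
  have hbij : Function.Bijective (QuotientGroup.mk' ((Sc).subgroupOf P)) :=
    ⟨(injective_iff_map_eq_one _).2 fun x hx =>
      Subtype.ext (hns x x.2 (Subgroup.mem_subgroupOf.1 ((QuotientGroup.eq_one_iff x).1 hx))),
      QuotientGroup.mk'_surjective _⟩
  let π : Matrix.ProjectiveSpecialLinearGroup (Fin 2) K ≃* ↥P :=
    e.symm.trans (MulEquiv.ofBijective _ hbij).symm
  let ρ : Matrix.ProjectiveSpecialLinearGroup (Fin 2) K →* GL3 := P.subtype.comp π.toMonoidHom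
  have hρ : Function.Injective ρ := P.subtype_injective.comp π.injective
  have hρP : ∀ x, ρ x ∈ P := fun x => (π x).2
  have hρspan : Submodule.span F (Set.range ((Units.coeHom Mat).comp ρ)) = ⊤ := by
    rw [show Set.range ((Units.coeHom Mat).comp ρ) = Set.range (Rep.incl P) from ?_]
    · exact Rep.span_range_incl P hP.absIrred
    · ext M
      exact ⟨fun ⟨x, hx⟩ => ⟨π x, hx⟩, fun ⟨y, hy⟩ => ⟨π.symm y, by
        show ((π (π.symm y) : ↥P) : GL3) = M
        rw [π.apply_symm_apply]; exact hy⟩⟩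
  -- the overgroup
  obtain ⟨A, σ, hAS, hZA, hσ, hσA, hAc, hSc⟩ := exists_model hF h7
  change Nat.card ↥S = 126000 * Nat.card ↥(Sc ⊓ S) at hSc
  change Nat.card ↥A = 2520 * Nat.card ↥(Sc ⊓ S) at hAc
  have key : ∃ (A : Subgroup GL3) (σ : Matrix.ProjectiveSpecialLinearGroup (Fin 2) K →* GL3),
      A ≤ S ∧ Sc ⊓ S ≤ A ∧ (∀ x, σ x ∈ A) ∧ Nat.card ↥A = 2520 * Nat.card ↥(Sc ⊓ S) ∧
      ∀ x, tr (ρ x) = tr (σ x) := by
    rcases same_traces h7 h2 h7F ρ σ hρ hσ (fun x => det_eq_one hPsl (hρP x))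
      (fun x => det_eq_one (hAS.trans inf_le_right) (hσA x)) with h | h
    · exact ⟨A, σ, hAS, hZA, hσA, hAc, h⟩
    let τ : GL3 →* GL3 := Matrix.GeneralLinearGroup.map (Forms.HermStd.qHom hF2)
    have hτ : Function.Injective τ := fun a b hab => Units.ext (Matrix.map_injective
      (Forms.HermStd.qHom hF2).injective (congrArg Units.val hab))
    have hτS : ∀ g ∈ S, τ g ∈ S := fun g hg => by
      refine ⟨(Rep.mem_GU_iff_mul hF2 _).2 ?_, MonoidHom.mem_ker.2 (Units.ext ?_)⟩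
      · have h1 := congrArg (fun M : Mat => M.map (Forms.HermStd.qHom hF2)) ((Rep.mem_GU_iff_mul hF2 g).1 hg.1)
        simp only [Matrix.map_mul, Matrix.map_one _ (map_zero (Forms.HermStd.qHom hF2)) (map_one _)] at h1
        exact h1
      · have := det_eq_one le_rfl hg.2
        show ((g : Mat).map (Forms.HermStd.qHom hF2)).det = 1
        rw [← RingHom.mapMatrix_apply, ← RingHom.map_det, this, map_one]
    have hτZ : (Sc ⊓ S).map τ = Sc ⊓ S := by
      refine Subgroup.eq_of_le_of_card_ge ?_ (by rw [Subgroup.card_map_of_injective hτ])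
      rintro _ ⟨g, ⟨hg, hgS⟩, rfl⟩
      refine ⟨?_, hτS g hgS⟩
      obtain ⟨c, hc⟩ := (Cfsg.Geo.mem_scalars_iff g).1 hg
      refine (Cfsg.Geo.mem_scalars_iff _).2 ⟨Units.map (Forms.HermStd.qHom hF2).toMonoidHom c, ?_⟩
      show (g : Mat).map (Forms.HermStd.qHom hF2) = _
      rw [hc]
      ext i j
      by_cases hij : i = j <;> simp [hij]
    refine ⟨A.map τ, τ.comp σ, ?_, ?_, fun x => ⟨σ x, hσA x, rfl⟩, ?_, fun x => ?_⟩
    · rintro _ ⟨g, hg, rfl⟩; exact hτS g (hAS hg)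
    · rw [← hτZ]; exact Subgroup.map_mono hZA
    · rw [Subgroup.card_map_of_injective hτ, hAc]
    · rw [h x, ← Rep.twist_of_le_GU hF2 (hAS.trans inf_le_left) (σ x) (hσA x)]
      show _ = Matrix.trace ((σ x : Mat).map (Forms.HermStd.qHom hF2))
      rw [← Forms.HermStd.qHom_apply hF2]
      exact map_sum (Forms.HermStd.qHom hF2) _ _
  obtain ⟨A, σ, hAS, hZA, hσA, hAc, htr⟩ := key
  obtain ⟨T, hT⟩ := Rep.exists_conj_of_trace ((Units.coeHom Mat).comp ρ) ((Units.coeHom Mat).comp σ) hρspan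
    (span_of_trace _ _ hρspan htr) htr
  have hT' : ∀ x, σ x = T * ρ x * T⁻¹ := fun x => Units.ext (by rw [Units.val_mul, Units.val_mul]; exact hT x)
  -- `T` is a similitude
  set θ := Forms.HermStd.qHom hF2
  have hGU : ∀ g ∈ S, (g : Mat)ᵀ * (g : Mat).map θ = 1 := fun g hg => (Rep.mem_GU_iff_mul hF2 g).1 hg.1
  set J : Mat := (T : Mat)ᵀ * (T : Mat).map θ with hJ
  have hJfix : ∀ x, (ρ x : Mat)ᵀ * J * (ρ x : Mat).map θ = J := fun x => by
    have h := hGU _ (hAS (hσA x))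
    rw [hT' x] at h
    simp only [Units.val_mul, transpose_mul, Matrix.map_mul] at h
    have h1 := congrArg (fun M => (T : Mat)ᵀ * M * (T : Mat).map θ) h
    beta_reduce at h1
    rw [mul_one, ← hJ] at h1
    conv_rhs => rw [← h1]
    rw [hJ]
    have eT : (T : Mat)ᵀ * ((T⁻¹ : GL3) : Mat)ᵀ = 1 := by rw [← transpose_mul, Units.inv_mul, transpose_one]
    have eT' : ((T⁻¹ : GL3) : Mat).map θ * (T : Mat).map θ = 1 := by
      rw [← Matrix.map_mul, Units.inv_mul, Matrix.map_one _ (map_zero θ) (map_one θ)]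
    simp only [← mul_assoc, eT, one_mul]
    simp only [mul_assoc, eT', mul_one]
  have hcomm : ∀ s ∈ Cfsg.Geo.matrixSet P, Jᵀ * s = s * Jᵀ := by
    rintro _ ⟨g, hg, rfl⟩
    have hg' : g = ρ (π.symm ⟨g, hg⟩) := by
      show g = ((π (π.symm ⟨g, hg⟩) : ↥P) : GL3)
      rw [π.apply_symm_apply]
    have h1 := hJfix (π.symm ⟨g, hg⟩)
    rw [← hg'] at h1
    have h2 := hGU g (hHS (hP.le hg))
    have h3 : (g : Mat)ᵀ * J = J * (g : Mat)ᵀ := by
      refine (g.isUnit.map θ.mapMatrix).mul_right_cancel ?_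
      show (g : Mat)ᵀ * J * (g : Mat).map θ = J * (g : Mat)ᵀ * (g : Mat).map θ
      rw [h1, mul_assoc, h2, mul_one]
    have := congrArg Matrix.transpose h3
    simpa only [transpose_mul, transpose_transpose] using this
  obtain ⟨c, hc⟩ := hP.absIrred.2 Jᵀ hcomm
  have hJc : J = c • (1 : Mat) := by
    rw [← transpose_transpose J, hc, transpose_smul, transpose_one]
  have hc0 : c ≠ 0 := fun h0 => by
    have hu : IsUnit J := ((Matrix.isUnit_transpose (T : Mat)).2 T.isUnit).mul (T.isUnit.map θ.mapMatrix)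
    rw [hJc, h0, zero_smul] at hu
    exact not_isUnit_zero hu
  -- the conjugate overgroup
  set A' := A.map (MulAut.conj T⁻¹).toMonoidHom with hA'
  have hA'S : A' ≤ S := by
    rintro _ ⟨a, ha, rfl⟩
    show T⁻¹ * a * T⁻¹⁻¹ ∈ S
    rw [inv_inv]
    refine ⟨(Rep.mem_GU_iff_mul hF2 _).2 ?_, ?_⟩
    · show (((T⁻¹ * a * T : GL3) : Mat))ᵀ * (((T⁻¹ * a * T : GL3) : Mat)).map θ = 1
      have eI : ((T⁻¹ : GL3) : Mat)ᵀ * ((T⁻¹ : GL3) : Mat).map θ = c⁻¹ • (1 : Mat) := by
        have h1 : (T : Mat).map θ * (c⁻¹ • (T : Mat)ᵀ) = 1 := by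
          refine mul_eq_one_comm.1 ?_
          rw [Matrix.smul_mul, ← hJ, hJc, smul_smul, inv_mul_cancel₀ hc0, one_smul]
        have h2 : ((T⁻¹ : GL3) : Mat).map θ = c⁻¹ • (T : Mat)ᵀ := by
          calc ((T⁻¹ : GL3) : Mat).map θ
              = ((T⁻¹ : GL3) : Mat).map θ * ((T : Mat).map θ * (c⁻¹ • (T : Mat)ᵀ)) := by rw [h1, mul_one]
            _ = _ := by rw [← mul_assoc, ← Matrix.map_mul, Units.inv_mul,
                Matrix.map_one _ (map_zero θ) (map_one θ), one_mul]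
        rw [h2, Matrix.mul_smul, ← transpose_mul, Units.mul_inv, transpose_one]
      simp only [Units.val_mul, transpose_mul, Matrix.map_mul]
      calc (T : Mat)ᵀ * ((a : Mat)ᵀ * ((T⁻¹ : GL3) : Mat)ᵀ) *
            (((T⁻¹ : GL3) : Mat).map θ * (a : Mat).map θ * (T : Mat).map θ)
          = (T : Mat)ᵀ * ((a : Mat)ᵀ * (((T⁻¹ : GL3) : Mat)ᵀ * ((T⁻¹ : GL3) : Mat).map θ) * (a : Mat).map θ) *
            (T : Mat).map θ := by simp only [mul_assoc]
        _ = c⁻¹ • ((T : Mat)ᵀ * (T : Mat).map θ) := by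
            rw [eI, Matrix.mul_smul, mul_one, Matrix.smul_mul, hGU a (hAS ha), Matrix.mul_smul, mul_one,
              Matrix.smul_mul]
        _ = 1 := by rw [← hJ, hJc, smul_smul, inv_mul_cancel₀ hc0, one_smul]
    · exact MonoidHom.mem_ker.2 (by
        rw [map_mul, map_mul, MonoidHom.mem_ker.1 (hAS ha).2, mul_one, ← map_mul, inv_mul_cancel, map_one])
  have hA'c : Nat.card ↥A' = 2520 * Nat.card ↥(Sc ⊓ S) := by
    rw [hA', Subgroup.card_map_of_injective (MulAut.conj T⁻¹).injective, hAc]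
  have hPA : P ≤ A' := fun g hg => by
    refine ⟨σ (π.symm ⟨g, hg⟩), hσA _, ?_⟩
    show T⁻¹ * σ _ * T⁻¹⁻¹ = g
    rw [hT', show ρ (π.symm ⟨g, hg⟩) = g from congrArg Subtype.val (π.apply_symm_apply ⟨g, hg⟩)]
    group
  have hScA : Sc ⊓ S ≤ A' := fun g hg => ⟨g, hZA hg, by
    show T⁻¹ * g * T⁻¹⁻¹ = g
    rw [inv_inv, mul_assoc, (scalar_comm hg.1 T).eq, inv_mul_cancel_left]⟩
  have hHA : H ≤ A' := fun h hh => by
    have hsur : ∀ x : Bar H, ∃ y : Bar P, hO.incl y = x := by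
      have hb : Function.Bijective hO.incl := by
        refine (Nat.bijective_iff_injective_and_card _).2 ⟨hO.incl_injective, ?_⟩
        rw [Nat.card_congr eH.toEquiv, Nat.card_congr e.toEquiv]
      exact hb.2
    obtain ⟨y, hy⟩ := hsur ((⟨h, hh⟩ : H) : Bar H)
    obtain ⟨g, hg, rfl⟩ := exists_rep y
    rw [hO.incl_mk] at hy
    have hs := mk_eq.1 hy
    have : g⁻¹ * h ∈ A' := hScA ⟨hs, S.mul_mem (S.inv_mem (hHS (hP.le hg))) (hHS hh)⟩
    simpa using mul_mem (hPA hg) this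
  have hz : 0 < Nat.card ↥(Sc ⊓ S) := Nat.card_pos
  rcases hH.2 A' hHA hA'S with e' | e'
  all_goals
    rw [e'] at hA'c
    clear_value S
    omega

end Cfsg.Agent.PSLThree.Five
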