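import Cfsg.Agent.Lib.PSLThree.Five.Traces

/-!
# Two representations of the group of order 168 have the same traces up to duality
-/

set_option autoImplicit false

namespace Cfsg.Agent.PSLThree.Five

open Matrix
open Cfsg.Agent.PSLThree.Rep (tr tr_conj conj_seven)

variable {F : Type*} [Field F]

/-- spanning is inherited along equal traces -/
theorem span_of_trace {G : Type*} [Group G] [Finite G] {ι : Type} [Fintype ι] [DecidableEq ι]
    (ρ ρ' : G →* Matrix ι ι F) (h : Submodule.span F (Set.range ρ) = ⊤)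
    (ht : ∀ x, Matrix.trace (ρ x) = Matrix.trace (ρ' x)) : Submodule.span F (Set.range ρ') = ⊤ := by
  classical
  set L := Finsupp.linearCombination F ρ with hL
  set L' := Finsupp.linearCombination F ρ' with hL'
  have hpair : ∀ (c : G →₀ F) (y : G), Matrix.trace (L' c * ρ' y) = Matrix.trace (L c * ρ y) := by
    intro c y
    induction c using Finsupp.induction_linear with
    | zero => simp
    | add a b ha hb => simp [add_mul, ha, hb]
    | single x a => simp [hL, hL', ← map_mul, ht]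
  have hker : LinearMap.ker L' ≤ LinearMap.ker L := fun c hc => by
    rw [LinearMap.mem_ker] at hc ⊢
    refine Rep.eq_zero_of_trace h ?_
    rintro _ ⟨y, rfl⟩
    rw [← hpair, hc, zero_mul, trace_zero]
  have hr : LinearMap.range L = ⊤ := by rw [hL, Finsupp.range_linearCombination, h]
  have hr' : LinearMap.range L' = Submodule.span F (Set.range ρ') := Finsupp.range_linearCombination _
  rw [← hr']
  refine Submodule.eq_top_of_finrank_eq (le_antisymm (Submodule.finrank_le _) ?_)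
  have h1 := LinearMap.finrank_range_add_finrank_ker L
  have h2 := LinearMap.finrank_range_add_finrank_ker L'
  have h3 := Submodule.finrank_mono hker
  rw [hr, finrank_top] at h1
  omega

section Seven

variable {K : Type} [Field K] [Fintype K] (h7 : Fintype.card K = 7)

local notation "L" => Matrix.ProjectiveSpecialLinearGroup (Fin 2) K

include h7 in
theorem natCard_psl : Nat.card (Matrix.ProjectiveSpecialLinearGroup (Fin 2) K) = 168 := by
  have hcard := Classical.Linear.gcd_mul_natCard_PSL_fin (F := K) (show 1 ≤ 2 by omega)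
  have hSL := Classical.Linear.mul_natCard_SL_fin (F := K) (show 1 ≤ 2 by omega)
  rw [h7, Fin.prod_univ_two] at hSL
  rw [h7] at hcard
  norm_num at hSL hcard
  omega

include h7 in
theorem exists_seven : ∃ x : Matrix.ProjectiveSpecialLinearGroup (Fin 2) K, orderOf x = 7 ∧
    ∀ y : Matrix.ProjectiveSpecialLinearGroup (Fin 2) K, y ^ 7 = 1 → y ≠ 1 →
      (∃ c, c * y * c⁻¹ = x) ∨ (∃ c, c * y * c⁻¹ = x⁻¹) := by
  classical
  haveI : Fact (Nat.Prime 7) := ⟨by norm_num⟩
  obtain ⟨x, hx⟩ := exists_prime_orderOf_dvd_card' (G := L) 7 (by rw [natCard_psl h7]; norm_num)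
  have h168 : Nat.factorization (168 : ℕ) 7 = 1 := by
    rw [show 168 = 7 ^ 1 * 24 by norm_num, Nat.factorization_mul (by norm_num) (by norm_num), Finsupp.add_apply,
      Nat.Prime.factorization_pow (by norm_num), Finsupp.single_eq_same,
      Nat.factorization_eq_zero_of_not_dvd (by norm_num)]
  refine ⟨x, hx, fun y hy hy1 => ?_⟩
  have hoy : orderOf y = 7 := orderOf_eq_prime hy hy1
  let Q : ∀ a : L, orderOf a = 7 → Sylow 7 L := fun a ha =>
    Sylow.ofCard (Subgroup.zpowers a) (by rw [Nat.card_zpowers, ha, natCard_psl h7, h168, pow_one])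
  obtain ⟨g, hg⟩ := MulAction.exists_smul_eq L (Q y hoy) (Q x hx)
  have hm : g * y * g⁻¹ ∈ Subgroup.zpowers x := by
    have : ((g • Q y hoy : Sylow 7 L) : Subgroup L) = Subgroup.zpowers x := by rw [hg]; rfl
    rw [← this, Sylow.coe_subgroup_smul]
    exact ⟨y, Subgroup.mem_zpowers y, rfl⟩
  obtain ⟨k, hk, hk'⟩ := (Finset.mem_image.1 ((isOfFinOrder_of_finite x).mem_zpowers_iff_mem_range_orderOf.1 hm))
  rw [hx] at hk
  simp only [Finset.mem_range] at hk
  have hx7 : x ^ 7 = 1 := hx ▸ pow_orderOf_eq_one x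
  obtain ⟨c₂, hc₂⟩ : ∃ c, c * x * c⁻¹ = x ^ 2 := by
    rcases Rep.TwoClasses.seven_cases h7 x with ⟨-, h | h⟩ | ⟨-, h⟩
    · have := orderOf_dvd_of_pow_eq_one h; rw [hx] at this; norm_num at this
    · have := orderOf_dvd_of_pow_eq_one h; rw [hx] at this; norm_num at this
    · exact h
  have hk0 : k ≠ 0 := fun e => hy1 (by
    rw [e, pow_zero] at hk'; exact conj_eq_one_iff.1 hk'.symm)
  by_cases hq : k = 1 ∨ k = 2 ∨ k = 4
  · obtain ⟨c, hc⟩ := conj_seven hx7 ⟨c₂, hc₂⟩ hq
    refine Or.inl ⟨c * g, ?_⟩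
    rw [← hc, hk']; group
  · obtain ⟨c, hc⟩ := conj_seven (x := x⁻¹) (by rw [inv_pow, hx7, inv_one])
      ⟨c₂, by rw [inv_pow, ← hc₂]; group⟩ (r := 7 - k) (by omega)
    refine Or.inr ⟨c * g, ?_⟩
    have : x⁻¹ ^ (7 - k) = x ^ k := by
      rw [inv_pow, inv_eq_iff_mul_eq_one, ← pow_add, show 7 - k + k = 7 by omega, hx7]
    rw [← hc, this, hk']; group

variable [Fintype F]

include h7 in
/-- the traces agree, or agree after inversion -/
theorem same_traces (h2 : (2 : F) ≠ 0) (h7F : ((7 : ℕ) : F) ≠ 0)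
    (ρ σ : Matrix.ProjectiveSpecialLinearGroup (Fin 2) K →* GL (Fin 3) F)
    (hρ : Function.Injective ρ) (hσ : Function.Injective σ)
    (hρd : ∀ x, (ρ x : Matrix (Fin 3) (Fin 3) F).det = 1) (hσd : ∀ x, (σ x : Matrix (Fin 3) (Fin 3) F).det = 1) :
    (∀ x, tr (ρ x) = tr (σ x)) ∨ (∀ x, tr (ρ x) = tr (σ x)⁻¹) := by
  classical
  obtain ⟨x₀, hx₀, hall⟩ := exists_seven h7
  have hconj : ∀ (τ : L →* GL (Fin 3) F) (c y z : L), c * y * c⁻¹ = z → tr (τ y) = tr (τ z) := fun τ c y z e => by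
    rw [← e, map_mul, map_mul, map_inv, tr_conj]
  have hsev : ∀ (τ : L →* GL (Fin 3) F), Function.Injective τ → (∀ x, (τ x : Matrix (Fin 3) (Fin 3) F).det = 1) →
      tr (τ x₀) * tr (τ x₀) + tr (τ x₀) + 2 = 0 ∧ tr (τ x₀)⁻¹ = -1 - tr (τ x₀) := fun τ hτ hτd => by
    have hx7 : x₀ ^ 7 = 1 := hx₀ ▸ pow_orderOf_eq_one x₀
    obtain ⟨c, hc⟩ : ∃ c, c * x₀ * c⁻¹ = x₀ ^ 2 := by
      rcases Rep.TwoClasses.seven_cases h7 x₀ with ⟨-, h | h⟩ | ⟨-, h⟩
      · have := orderOf_dvd_of_pow_eq_one h; rw [hx₀] at this; norm_num at this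
      · have := orderOf_dvd_of_pow_eq_one h; rw [hx₀] at this; norm_num at this
      · exact h
    refine trace_seven (k := τ c) (hτd x₀) h7F (by rw [← map_pow, hx7, map_one])
      (fun e => ?_) (by rw [← map_inv, ← map_mul, ← map_mul, hc, map_pow])
    rw [map_eq_one_iff τ hτ] at e
    rw [e, orderOf_one] at hx₀
    norm_num at hx₀
  obtain ⟨hρq, hρi⟩ := hsev ρ hρ hρd
  obtain ⟨hσq, hσi⟩ := hsev σ hσ hσd
  have hroot : (tr (ρ x₀) - tr (σ x₀)) * (tr (ρ x₀) - (-1 - tr (σ x₀))) = 0 := by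
    linear_combination hρq - hσq
  have hreal : ∀ x : L, (∃ y, y * x * y⁻¹ = x⁻¹) → (x ^ 3 = 1 ∨ x ^ 4 = 1) →
      tr (ρ x) = tr (σ x) ∧ tr (σ x)⁻¹ = tr (σ x) := fun x hr hn => by
    obtain ⟨y, hy⟩ := hr
    have key : ∀ τ : L →* GL (Fin 3) F, Function.Injective τ → (∀ x, (τ x : Matrix (Fin 3) (Fin 3) F).det = 1) →
        tr (τ x)⁻¹ = tr (τ x) ∧ tr (τ x) = if x = 1 then (3 : F) else if x ^ 3 = 1 then 0 else
          if x ^ 2 = 1 then -1 else 1 := fun τ hτ hτd => by
      have hinv : tr (τ x)⁻¹ = tr (τ x) := by rw [← map_inv, hconj τ y x x⁻¹ hy]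
      refine ⟨hinv, ?_⟩
      by_cases h1 : x = 1
      · rw [if_pos h1, h1, map_one]; simp [tr]
      have hne : (τ x : Matrix (Fin 3) (Fin 3) F) ≠ 1 := fun e =>
        h1 ((map_eq_one_iff τ hτ).1 (Units.ext e))
      obtain ⟨t2, t3, t4⟩ := trace_real h2 (hτd x) (Units.mul_inv (τ x)) hinv hne
      rw [if_neg h1]
      split_ifs with a b
      · exact t3 (by rw [← Units.val_mul, ← Units.val_mul, ← map_mul, ← map_mul,
          show x * x * x = x ^ 3 by rw [pow_three, mul_assoc], a, map_one, Units.val_one])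
      · exact t2 (by rw [← Units.val_mul, ← map_mul, ← pow_two, b, map_one, Units.val_one])
      · have h4 := hn.resolve_left a
        refine t4 ?_ ?_
        · rw [← Units.val_mul, ← Units.val_mul, ← Units.val_mul, ← map_mul, ← map_mul, ← map_mul,
            show x * x * x * x = x ^ 4 by rw [← pow_two, ← pow_succ, ← pow_succ], h4, map_one, Units.val_one]
        · intro e
          rw [← Units.val_mul, ← map_mul, ← pow_two] at e
          exact b ((map_eq_one_iff τ hτ).1 (Units.ext e))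
    obtain ⟨-, a⟩ := key ρ hρ hρd
    obtain ⟨b1, b⟩ := key σ hσ hσd
    exact ⟨a.trans b.symm, b1⟩
  rcases mul_eq_zero.1 hroot with h | h
  · left
    intro x
    rcases Rep.TwoClasses.seven_cases h7 x with ⟨hr, hn⟩ | ⟨hx7, -⟩
    · exact (hreal x hr hn).1
    · by_cases hx1 : x = 1
      · simp [hx1]
      rcases hall x hx7 hx1 with ⟨c, hc⟩ | ⟨c, hc⟩
      · rw [hconj ρ c x _ hc, hconj σ c x _ hc]; linear_combination h
      · rw [hconj ρ c x _ hc, hconj σ c x _ hc, map_inv, map_inv, hρi, hσi]; linear_combination -h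
  · right
    intro x
    rcases Rep.TwoClasses.seven_cases h7 x with ⟨hr, hn⟩ | ⟨hx7, -⟩
    · rw [(hreal x hr hn).2]; exact (hreal x hr hn).1
    · by_cases hx1 : x = 1
      · simp [hx1]
      have hinv : ∀ c y z : L, c * y * c⁻¹ = z → c * y⁻¹ * c⁻¹ = z⁻¹ := fun c y z e => by rw [← e]; group
      rcases hall x hx7 hx1 with ⟨c, hc⟩ | ⟨c, hc⟩
      · rw [← map_inv, hconj ρ c x _ hc, hconj σ c x⁻¹ _ (hinv _ _ _ hc), map_inv, hσi]
        linear_combination h
      · rw [← map_inv, hconj ρ c x _ hc, hconj σ c x⁻¹ _ (hinv _ _ _ hc), inv_inv, map_inv, hρi]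
        linear_combination -h

end Seven

end Cfsg.Agent.PSLThree.Five
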