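import Cfsg.Agent.Lib.PSLThree.Rep.Residual
import Cfsg.Agent.Lib.PSLThree.Small.Eigen

/-!
# The trace of a faithful three-dimensional representation of the group of order 168

* `trace_real`: an element of order two, three, four has trace `-1`, `0`, `1`.
* `trace_seven`: at an element of order seven conjugate to its square the trace `t` satisfies `t² + t + 2 = 0`
  and the inverse has trace `-1 - t`.
* `same_traces`: two such representations have equal traces, up to replacing one by the dual.
-/

set_option autoImplicit false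

namespace Cfsg.Agent.PSLThree.Five

open Matrix
open Cfsg.Agent.PSLThree.Rep (tr tr_conj)

variable {F : Type*} [Field F]

local notation "Fb" => AlgebraicClosure F
local notation "Mat" => Matrix (Fin 3) (Fin 3) F

/-- the cubic of a matrix of determinant one -/
theorem cayley_three {M N : Mat} (hd : M.det = 1) (h : M * N = 1) :
    M * M * M - M.trace • (M * M) + N.trace • M - 1 = 0 := by
  have hN : N = M.adjugate := by
    have h1 : M.adjugate * M = 1 := by rw [adjugate_mul, hd, one_smul]
    calc N = M.adjugate * M * N := by rw [h1, one_mul]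
      _ = M.adjugate := by rw [mul_assoc, h, mul_one]
  subst hN
  have hd' : M.det - 1 = 0 := sub_eq_zero.2 hd
  rw [det_fin_three] at hd'
  ext i j
  fin_cases i <;> fin_cases j <;>
    simp [Matrix.mul_apply, Matrix.trace, adjugate_fin_three, Fin.sum_univ_three] <;>
    first
    | linear_combination hd'
    | ring

theorem one_smul_mat {c : F} (h : c • (1 : Mat) = 0) : c = 0 := by
  simpa using congrFun (congrFun h 0) 0

/-- the traces of real elements of order two, three, four -/
theorem trace_real (h2 : (2 : F) ≠ 0) {M N : Mat} (hd : M.det = 1) (h : M * N = 1)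
    (ht : N.trace = M.trace) (h1 : M ≠ 1) :
    (M * M = 1 → M.trace = -1) ∧ (M * M * M = 1 → M.trace = 0) ∧
      (M * M * M * M = 1 → M * M ≠ 1 → M.trace = 1) := by
  set t := M.trace with htdef
  have hc := cayley_three hd h
  rw [ht] at hc
  refine ⟨fun e => ?_, fun e => ?_, fun e e' => ?_⟩
  · rw [e, one_mul] at hc
    have h3 : (t + 1) • (M - 1) = 0 := by rw [← hc]; module
    rcases smul_eq_zero.1 h3 with h | h
    · linear_combination h
    · exact absurd (sub_eq_zero.1 h) h1
  · rw [e] at hc
    have h3 : t • (M * (M - 1)) = 0 := by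
      rw [mul_sub, mul_one]
      calc t • (M * M - M) = -((1 : Mat) - t • (M * M) + t • M - 1) := by module
        _ = 0 := by rw [hc, neg_zero]
    rcases smul_eq_zero.1 h3 with h4 | h4
    · exact h4
    · have : N * (M * (M - 1)) = 0 := by rw [h4, mul_zero]
      rw [← mul_assoc, mul_eq_one_comm.1 h, one_mul] at this
      exact absurd (sub_eq_zero.1 this) h1
  · by_contra hne
    have he := congrArg (fun X => M * X) hc
    simp only [mul_zero, mul_sub, mul_add, Matrix.mul_smul, mul_one, ← mul_assoc] at he
    rw [e] at he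
    -- `he : 1 - t M³ + t M² - M = 0`
    have h3 : M * M * M = t • (M * M) - t • M + 1 := by
      rw [← sub_eq_zero, ← hc]; module
    rw [h3] at he
    have h5 : (1 - t) • ((t • (M * M) - (1 + t) • M + (1 : Mat))) = 0 := by
      rw [← he]; module
    have h6 := (smul_eq_zero.1 h5).resolve_left (sub_ne_zero.2 (Ne.symm hne))
    have h7 := congrArg (fun X => M * X) h6
    simp only [mul_zero, mul_sub, mul_add, Matrix.mul_smul, mul_one, ← mul_assoc] at h7
    rw [h3] at h7
    have h8 : (t * t - t - 1) • (M * M) + (1 - t * t) • M + t • (1 : Mat) = 0 := by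
      rw [← h7]; module
    refine e' (sub_eq_zero.1 ?_)
    calc M * M - (1 : Mat)
        = (t - 1) • (t • (M * M) - (1 + t) • M + (1 : Mat))
          - ((t * t - t - 1) • (M * M) + (1 - t * t) • M + t • (1 : Mat)) := by module
      _ = 0 := by rw [h6, h8, smul_zero, sub_zero]

variable [Fintype F]

/-- an element of order seven conjugate to its square -/
theorem trace_seven {g k : GL (Fin 3) F} (hd : (g : Mat).det = 1) (h7 : ((7 : ℕ) : F) ≠ 0) (hg : g ^ 7 = 1)
    (h1 : g ≠ 1) (hk : k * g * k⁻¹ = g ^ 2) :
    tr g * tr g + tr g + 2 = 0 ∧ tr g⁻¹ = -1 - tr g := by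
  classical
  haveI : Fact (Nat.Prime 7) := ⟨by norm_num⟩
  obtain ⟨z, hz, hsq⟩ := Small.squares_mem h7 hg h1 (by rw [← hk, eig_conj])
  have hz7 : z ^ 7 = 1 := hz ▸ pow_orderOf_eq_one z
  have hnd : ({z, z ^ 2, z ^ 4} : Multiset Fb).Nodup := by
    have hne : ∀ a b : ℕ, a < 7 → b < 7 → a ≠ b → z ^ a ≠ z ^ b := fun a b ha hb hab e =>
      hab (pow_injOn_Iio_orderOf (hz.symm ▸ ha) (hz.symm ▸ hb) e)
    simpa [Multiset.insert_eq_cons] using
      ⟨⟨by simpa using hne 1 2 (by norm_num) (by norm_num) (by norm_num),
        by simpa using hne 1 4 (by norm_num) (by norm_num) (by norm_num)⟩,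
        hne 2 4 (by norm_num) (by norm_num) (by norm_num)⟩
  have heig : eig g = {z, z ^ 2, z ^ 4} := by
    refine (Multiset.eq_of_le_of_card_le ((Multiset.le_iff_subset hnd).2 fun w hw => ?_) ?_).symm
    · simp only [Multiset.insert_eq_cons, Multiset.mem_cons, Multiset.mem_singleton] at hw
      rcases hw with rfl | rfl | rfl
      · simpa using hsq 0
      · simpa using hsq 1
      · simpa using hsq 2
    · rw [card_eig]; simp
  have hs := sum_eig g
  rw [heig] at hs
  simp only [Multiset.insert_eq_cons, Multiset.sum_cons, Multiset.sum_singleton] at hs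
  have hs6 := sum_eig (g ^ 6)
  rw [eig_pow h7 hg, heig] at hs6
  simp only [Multiset.insert_eq_cons, Multiset.map_cons, Multiset.map_singleton, Multiset.sum_cons,
    Multiset.sum_singleton] at hs6
  have hinv : g⁻¹ = g ^ 6 := inv_eq_of_mul_eq_one_right (by rw [← pow_succ', hg])
  have hphi : 1 + z + z ^ 2 + z ^ 3 + z ^ 4 + z ^ 5 + z ^ 6 = 0 := by
    have hne : z ≠ 1 := fun e => by rw [e, orderOf_one] at hz; norm_num at hz
    refine (mul_eq_zero.1 (show (z - 1) * (1 + z + z ^ 2 + z ^ 3 + z ^ 4 + z ^ 5 + z ^ 6) = 0 by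
      linear_combination hz7)).resolve_left (sub_ne_zero.2 hne)
  constructor
  · refine (algebraMap F Fb).injective ?_
    simp only [map_add, map_mul, map_zero, map_ofNat]
    rw [← hs]
    linear_combination 2 * hphi + z * hz7
  · refine (algebraMap F Fb).injective ?_
    rw [hinv]
    simp only [map_sub, map_neg, map_one]
    rw [← hs, ← hs6]
    linear_combination hphi + (z ^ 3 * z ^ 14 + z ^ 3 * z ^ 7 + z ^ 3) * hz7 + (z ^ 5) * hz7

end Cfsg.Agent.PSLThree.Five
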